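set_option autoImplicit false
namespace Cfsg.Agent.Lib.Helper6.TCD.L37KU
noncomputable def WDL0 (i : Nat) : Nat := Nat.land (Nat.shiftRight 0x2120021200212000f000001200212002120020f000002002120021200210f000000021200212002120f000000211202112021120f000002112021120211200f000001120211202112020f000001202112021120210f000002021120211202110f000000000000000000000e000000111111111111110e000000002020202020200c000000000202020202020c000000001212121212120c000000002121212121210c0000000000000000002202 (Nat.mul 88 (Nat.land i 15))) 309485009821345068724781055
noncomputable def WDL1 (i : Nat) : Nat := Nat.land (Nat.shiftRight 0x2020002002111120211200020002002111120212120020002002111120212012000002002111120212021200002002111120212020120002002111120212020012002002111120212020001200002111120212020002120002111120212020002012002111120212020002001200111120212020002002120011120212020002002112001120212020002002111200120212020002002111120020212020002002111112000000212002120021200f (Nat.mul 88 (Nat.land i 15))) 309485009821345068724781055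
noncomputable def WDP0N0 (i : Nat) : Nat := Bool.rec (WDL0 i) (WDL1 i) (Nat.ble 16 i)
noncomputable def WDL2 (i : Nat) : Nat := Nat.land (Nat.shiftRight 0x12111212021200002112002111212021200002111200111212021200002112120011212021200002112112001212021200002112111200212021200002112111120012021200002112111212002021200002112111211200021200002112111212120021200002112111212012001200002112111212021200200002112111212021120000002112111212021212000212020002002111121200212020002002111120120012020002002111120212 (Nat.mul 88 (Nat.land i 15))) 309485009821345068724781055
noncomputable def WDP0N1 (i : Nat) : Nat := Bool.rec (WDP0N0 i) (WDL2 i) (Nat.ble 32 i)
noncomputable def WDL3 (i : Nat) : Nat := Nat.land (Nat.shiftRight 0x2020002111212020212114020002111212020212121420002111212020212120140002111212020212120214002111212020212120201402111212020212120200142111212020212120200014111212020212120200021411212020212120200021141212020212120200021114212020212120200021111400000211211121202120120000211211121202120012000211211121202120001200211211121202120000120011211121202120000212 (Nat.mul 88 (Nat.land i 15))) 309485009821345068724781055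
noncomputable def WDL4 (i : Nat) : Nat := Nat.land (Nat.shiftRight 0x1020000000000000000001002120202121202000211121420202121202000211121140202121202000211121214202121202000211121201402121202000211121202142121202000211121202014121202000211121202021421202000211121202021141202000211121202021214 (Nat.mul 88 (Nat.land i 15))) 309485009821345068724781055
noncomputable def WDP0N2 (i : Nat) : Nat := Bool.rec (WDL3 i) (WDL4 i) (Nat.ble 64 i)
noncomputable def WD (i : Nat) : Nat := Bool.rec (WDP0N1 i) (WDP0N2 i) (Nat.ble 48 i)
end Cfsg.Agent.Lib.Helper6.TCD.L37KU
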