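set_option autoImplicit false
namespace Cfsg.Agent.Lib.Helper6.TCD.L37KU
noncomputable def WI (i : Nat) : Nat := Nat.land (Nat.shiftRight 0x418000c1305090284414200a0f05070283414180a0b05050282414100a0705030281414080a0305010280414000b1104880243c121c090d04860242c1214090904840241c120c090504820240c120409010480020441020080f0407020341018080b040502024101008070403020141008080304010200410000904038181c080e02070003020180c0c040601030001c00080005010180008040400020000 (Nat.mul 17 (Nat.land i 255))) 131071
end Cfsg.Agent.Lib.Helper6.TCD.L37KU
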