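import Cfsg.Agent.Lib.Helper6.TCD.L37KU.CS0
import Cfsg.Agent.Lib.Helper6.TCD.L37KU.CS1
import Cfsg.Agent.Lib.Helper6.TCD.L37KU.CS2
import Cfsg.Agent.Lib.Helper6.TCD.L37KU.CS3
import Cfsg.Agent.Lib.Helper6.TCD.L37KU.CS4
import Cfsg.Agent.Lib.Helper6.TCD.L37KU.CS5
import Cfsg.Agent.Lib.Helper6.TCD.L37KU.CS6
import Cfsg.Agent.Lib.Helper6.TCD.L37KU.CS7
import Cfsg.Agent.Lib.Helper6.TCD.L37KU.CS8
import Cfsg.Agent.Lib.Helper6.TCD.L37KU.CS9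
import Cfsg.Agent.Lib.Helper6.TCD.L37KU.CS10
import Cfsg.Agent.Lib.Helper6.TCD.L37KU.CS11
import Cfsg.Agent.Lib.Helper6.TCD.L37KU.CS12
import Cfsg.Agent.Lib.Helper6.TCD.L37KU.CN0
import Cfsg.Agent.Lib.Helper6.TCD.L37KU.CN1
import Cfsg.Agent.Lib.Helper6.TCD.L37KU.CN2
import Cfsg.Agent.Lib.Helper6.TCD.L37KU.CN3
import Cfsg.Agent.Lib.Helper6.TCD.L37KU.CN4
import Cfsg.Agent.Lib.Helper6.TCD.L37KU.CN5
import Cfsg.Agent.Lib.Helper6.TCD.L37KU.CC
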