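import Cfsg.Agent.Lib.Helper6.WP7
import Cfsg.Agent.Lib.Helper6.TCD.L37KU.All

set_option autoImplicit false
set_option maxRecDepth 100000

namespace Cfsg.Agent.Lib.Helper6.TCD.L37KU
open Cfsg.Agent.Lib.Helper6.TC

/-- the relators -/
def base : List (List ℕ) := [
  [2, 2],
  [1, 2, 1, 2, 1, 2, 1, 2, 1, 2, 1, 2],
  [1, 1, 1, 1, 1, 1, 1, 1, 1, 1, 1, 1, 1, 1],
  [1, 1, 2, 0, 2, 1, 1, 2, 0, 2, 1, 1, 2, 0, 2],
  [1, 1, 1, 1, 2, 0, 0, 2, 0, 0, 0, 2, 0, 2, 1, 2, 0, 2],
  [1, 1, 1, 2, 0, 0, 0, 2, 0, 2, 1, 2, 1, 2, 0, 2, 0, 2, 1, 2],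
  [0, 1]]

/-- the generators of the subgroup -/
def subw : List (List ℕ) := []

theorem chkW : allB (chkWord WD WI base subw INV ncol nrw) nw = true := by
  decide +kernel

theorem hS : ∀ s < n * ncol, chkSlot SH SC NH NC WD n ncol nrw nw tmax INV s = true := by
  intro s hs
  have hs' : s < 101325 := hs
  by_cases h0 : s < 8000
  · exact allR_spec chkS0 s (by omega) (by omega)
  by_cases h1 : s < 16000
  · exact allR_spec chkS1 s (by omega) (by omega)
  by_cases h2 : s < 24000
  · exact allR_spec chkS2 s (by omega) (by omega)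
  by_cases h3 : s < 32000
  · exact allR_spec chkS3 s (by omega) (by omega)
  by_cases h4 : s < 40000
  · exact allR_spec chkS4 s (by omega) (by omega)
  by_cases h5 : s < 48000
  · exact allR_spec chkS5 s (by omega) (by omega)
  by_cases h6 : s < 56000
  · exact allR_spec chkS6 s (by omega) (by omega)
  by_cases h7 : s < 64000
  · exact allR_spec chkS7 s (by omega) (by omega)
  by_cases h8 : s < 72000
  · exact allR_spec chkS8 s (by omega) (by omega)
  by_cases h9 : s < 80000
  · exact allR_spec chkS9 s (by omega) (by omega)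
  by_cases h10 : s < 88000
  · exact allR_spec chkS10 s (by omega) (by omega)
  by_cases h11 : s < 96000
  · exact allR_spec chkS11 s (by omega) (by omega)
  by_cases h12 : s < 101325
  · exact allR_spec chkS12 s (by omega) (by omega)
  omega

theorem hN : ∀ ν < n, chkName SH NH NC WD n ncol nrw nw tmax ν = true := by
  intro ν hν
  have hν' : ν < 33775 := hν
  by_cases h0 : ν < 6000
  · exact allR_spec chkN0 ν (by omega) (by omega)
  by_cases h1 : ν < 12000
  · exact allR_spec chkN1 ν (by omega) (by omega)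
  by_cases h2 : ν < 18000
  · exact allR_spec chkN2 ν (by omega) (by omega)
  by_cases h3 : ν < 24000
  · exact allR_spec chkN3 ν (by omega) (by omega)
  by_cases h4 : ν < 30000
  · exact allR_spec chkN4 ν (by omega) (by omega)
  by_cases h5 : ν < 33775
  · exact allR_spec chkN5 ν (by omega) (by omega)
  omega

theorem hL : ∀ ν < n, chkLive SH NH n ncol tmax ν = true := by
  intro ν hν
  have hν' : ν < 33775 := hν
  by_cases h0 : ν < 6000
  · exact allR_spec chkL0 ν (by omega) (by omega)
  by_cases h1 : ν < 12000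
  · exact allR_spec chkL1 ν (by omega) (by omega)
  by_cases h2 : ν < 18000
  · exact allR_spec chkL2 ν (by omega) (by omega)
  by_cases h3 : ν < 24000
  · exact allR_spec chkL3 ν (by omega) (by omega)
  by_cases h4 : ν < 30000
  · exact allR_spec chkL4 ν (by omega) (by omega)
  by_cases h5 : ν < 33775
  · exact allR_spec chkL5 ν (by omega) (by omega)
  omega

theorem hinv1 : ∀ c < 3, invc INV c < 3 := by
  intro c hc
  interval_cases c <;> decide

theorem hpair : ∀ c < 3, [c, invc INV c] ∈ base ∨ [invc INV c, c] ∈ base := by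
  intro c hc
  interval_cases c <;> decide +kernel

theorem hbl : ∀ b ∈ base, ∀ c ∈ b, c < 3 := by decide +kernel

/-- the index of the subgroup is at most `32928` -/
theorem idx : (subH (wrels 3 base) (wset 3 subw)).index ≤ 32928 ∧
    (subH (wrels 3 base) (wset 3 subw)).index ≠ 0 := by
  have h := wp_index_le' (k := 3) (base := base) (subw := subw) (SH := SH) (SC := SC) (NH := NH)
    (NC := NC) (WD := WD) (WI := WI) (n := n) (nrw := nrw) (nw := nw) (tmax := tmax) (INV := INV)
    (by decide) (by decide) hinv1 hpair hbl (fun j hj => allB_spec chkW j hj) hS hN hL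
  have e : cntLive NH n tmax n = 32928 := chkC
  rw [e] at h
  exact h

end Cfsg.Agent.Lib.Helper6.TCD.L37KU
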